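import Cfsg.Agent.Lib.U35.Data
import Cfsg.Agent.Lib.U35.DataP

/-! Kernel checks on the tables. -/

set_option autoImplicit false
set_option maxRecDepth 20000

namespace Cfsg.Agent.U35

open Cfsg.Agent.PermCert

/-- A table as a map. -/
def fn (e : Elt) (i : Fin 126) : Fin 126 := Fin.ofNat 126 (get 7 e.1 i.val)

theorem g35_cert : checkCert 7 126 g35Gens g35Derived g35Levels = true := by decide +kernel
theorem g35_order : certOrder g35Levels = 126000 := by decide +kernel
theorem b35_cert : checkCert 7 126 b35Gens b35Derived b35Levels = true := by decide +kernel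
theorem b35_order : certOrder b35Levels = 1000 := by decide +kernel
theorem p35_cert : checkCert 7 126 p35Gens p35Derived p35Levels = true := by decide +kernel
theorem p35_order : certOrder p35Levels = 125 := by decide +kernel
theorem p35_gens : p35Gens = [ea, eb] := by decide +kernel
theorem k35_cert : checkCert 7 126 k35Gens k35Derived k35Levels = true := by decide +kernel
theorem k35_order : certOrder k35Levels = 2520 := by decide +kernel

/-- Elements moving the base point to every point. -/
def orbElts : List Elt := g35Level0.2.2.map fun t => t.2.1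

theorem orb_ok : ∀ e ∈ orbElts, validElt 7 126 e = true ∧ sift 7 126 g35Levels e.1 = true := by
  decide +kernel

theorem orb_cover : ∀ i : Fin 126, ∃ e ∈ orbElts, fn e 0 = i := by decide +kernel

theorem small_ok : (∀ e ∈ b35Gens, validElt 7 126 e = true ∧ sift 7 126 g35Levels e.1 = true ∧ fn e 0 = 0) ∧
    (∀ e ∈ k35Gens, validElt 7 126 e = true ∧ sift 7 126 g35Levels e.1 = true) ∧
    b35Gens = [ea, eb, ec] ∧ validElt 7 126 ez = true := by
  decide +kernel

theorem p_valid : ∀ r ∈ pList, validElt 7 126 r = true ∧ sift 7 126 p35Levels r.1 = true := by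
  decide +kernel

theorem p_mul : (pList.any fun s => Nat.beq s.1 (idCode 7 126)) = true ∧
    ([ea, eb].all fun g => pList.all fun r =>
      pList.any fun s => Nat.beq s.1 (comp 7 126 g.1 r.1)) = true := by
  decide +kernel

theorem p_fix : (pList.all fun r => Nat.beq r.1 (idCode 7 126) ||
    allBelow (fun i => Nat.beq i 0 || !(Nat.beq (get 7 r.1 i) i)) 126) = true := by
  decide +kernel

theorem p_abz : (pList.any fun s => Nat.beq s.1 ea.1) = true ∧
    (pList.any fun s => Nat.beq s.1 eb.1) = true ∧ Nat.beq ez.1 (idCode 7 126) = false ∧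
    Nat.beq (comp 7 126 ea.1 (comp 7 126 eb.1 (comp 7 126 ea.2 eb.2))) ez.1 = true ∧
    Nat.beq (comp 7 126 ez.1 ea.1) (comp 7 126 ea.1 ez.1) = true ∧
    Nat.beq (comp 7 126 ez.1 eb.1) (comp 7 126 eb.1 ez.1) = true := by
  decide +kernel

/-- Code of a power. -/
def powC (e : Elt) : ℕ → ℕ
  | 0 => idCode 7 126
  | k + 1 => comp 7 126 e.1 (powC e k)

theorem p_normal : (b35Gens.all fun g => [ea, eb].all fun r =>
    pList.any fun s => Nat.beq s.1 (comp 7 126 g.1 (comp 7 126 r.1 g.2))) = true := by
  decide +kernel

theorem z_normal : (b35Gens.all fun g => (List.range 5).any fun k =>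
    Nat.beq (powC ez k) (comp 7 126 g.1 (comp 7 126 ez.1 g.2))) = true := by
  decide +kernel

theorem c_cond : (pList.all fun r => ((List.range 5).any fun k => Nat.beq r.1 (powC ez k)) ||
    (let y := comp 7 126 ec.1 (comp 7 126 r.1 ec.2)
     (List.range 5).all fun k => (List.range 5).all fun l =>
      !(Nat.beq y (comp 7 126 (powC r k) (powC ez l))))) = true := by
  decide +kernel

theorem p_exp : (pList.all fun r => Nat.beq (powC r 5) (idCode 7 126)) = true := by decide +kernel

theorem z_pow_five : powC ez 5 = idCode 7 126 := by decide +kernel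

theorem ez_canon : Nat.beq ez.1 (pack 7 (get 7 ez.1) 126) = true := by decide +kernel

end Cfsg.Agent.U35
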