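import Mathlib.GroupTheory.Sylow
import Mathlib.GroupTheory.GroupAction.Quotient
import Mathlib.GroupTheory.Subgroup.Simple
import Mathlib.Data.ZMod.Basic
import Mathlib.Tactic

/-! An orbit argument: a simple group of order 126000 of the shape of `U₃(5)` has no proper subgroup
of index below 50. -/

set_option autoImplicit false

open scoped Pointwise

namespace Cfsg.Agent.U35

/-- What is used about U₃(5) on its 126 isotropic points. -/
structure Data (G : Type*) [Group G] (α : Type*) [MulAction G α] where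
  /-- The base point. -/
  x0 : α
  /-- The Sylow subgroup. -/
  P : Subgroup G
  /-- The central element. -/
  z : G
  /-- The torus element. -/
  c : G
  card_G : Nat.card G = 126000
  card_α : Nat.card α = 126
  trans : MulAction.IsPretransitive G α
  card_P : Nat.card P = 125
  P_le : P ≤ MulAction.stabilizer G x0
  fix : ∀ p ∈ P, ∀ y : α, y ≠ x0 → p • y = y → p = 1
  z_mem : z ∈ P
  z_ne : z ≠ 1
  z_order : orderOf z = 5
  z_central : ∀ p ∈ P, z * p = p * z
  z_comm : ∃ a ∈ P, ∃ b ∈ P, a * b * a⁻¹ * b⁻¹ = z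
  P_comm : ∀ p ∈ P, ∀ r ∈ P, p * r * p⁻¹ * r⁻¹ ∈ Subgroup.zpowers z
  P_normal : ∀ s ∈ MulAction.stabilizer G x0, ∀ p ∈ P, s * p * s⁻¹ ∈ P
  z_normal : ∀ s ∈ MulAction.stabilizer G x0, s * z * s⁻¹ ∈ Subgroup.zpowers z
  c_mem : c ∈ MulAction.stabilizer G x0
  c_cond : ∀ r ∈ P, r ∉ Subgroup.zpowers z →
    ∀ i ∈ Subgroup.zpowers r, ∀ j ∈ Subgroup.zpowers z, c * r * c⁻¹ ≠ i * j

variable {G : Type*} [Group G] [Finite G] {α : Type*} [MulAction G α] [Finite α]

theorem Data.card_stabilizer (d : Data G α) : Nat.card (MulAction.stabilizer G d.x0) = 1000 := by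
  haveI := d.trans
  have h := (MulAction.stabilizer G d.x0).card_mul_index
  rw [MulAction.index_stabilizer_of_transitive, d.card_α, d.card_G] at h
  omega

/-- A subgroup transitive on the points and containing `z` is everything. -/
theorem Data.eq_top_of_mem [IsSimpleGroup G] (d : Data G α) (H : Subgroup G)
    (ht : ∀ y : α, ∃ h ∈ H, h • d.x0 = y) (hz : d.z ∈ H) : H = ⊤ := by
  have hconj : ∀ g : G, g * d.z * g⁻¹ ∈ H := by
    intro g
    obtain ⟨h, hh, he⟩ := ht (g • d.x0)
    have hs : h⁻¹ * g ∈ MulAction.stabilizer G d.x0 := by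
      rw [MulAction.mem_stabilizer_iff, mul_smul, ← he, inv_smul_smul]
    have h1 : (h⁻¹ * g) * d.z * (h⁻¹ * g)⁻¹ ∈ H := (Subgroup.zpowers_le.2 hz) (d.z_normal _ hs)
    have h2 := mul_mem (mul_mem hh h1) (inv_mem hh)
    simpa [mul_assoc] using h2
  have hle : Subgroup.normalClosure {d.z} ≤ H := by
    rw [Subgroup.normalClosure, Subgroup.closure_le]
    intro w hw
    obtain ⟨a, ha, hc⟩ := Group.mem_conjugatesOfSet_iff.1 hw
    rw [Set.mem_singleton_iff] at ha
    subst ha
    obtain ⟨g, rfl⟩ := isConj_iff.1 hc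
    exact hconj g
  rcases IsSimpleGroup.eq_bot_or_eq_top_of_normal _ (Subgroup.normalClosure_normal (s := {d.z})) with h | h
  · exact absurd (Subgroup.mem_bot.1 (h ▸ Subgroup.subset_normalClosure (Set.mem_singleton d.z))) d.z_ne
  · exact top_le_iff.1 (h ▸ hle)

theorem Data.sylow (d : Data G α) : ∃ S : Sylow 5 G, (S : Subgroup G) = d.P := by
  haveI : Fact (Nat.Prime 5) := ⟨by norm_num⟩
  refine ⟨(IsPGroup.of_card (p := 5) (n := 3) (G := d.P) (by rw [d.card_P]; norm_num)).toSylow ?_, rfl⟩
  intro hd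
  have h := d.P.card_mul_index
  rw [d.card_P, d.card_G] at h
  obtain ⟨k, hk⟩ := hd
  omega

theorem Data.index_bound [IsSimpleGroup G] (d : Data G α) (H : Subgroup G) (hH : H ≠ ⊤) :
    50 ≤ H.index := by
  classical
  haveI : Fact (Nat.Prime 5) := ⟨by norm_num⟩
  haveI := d.trans
  by_contra hlt
  push Not at hlt
  have hHi := H.card_mul_index
  rw [d.card_G] at hHi
  have hbig : 2520 < Nat.card H := by
    by_contra h
    push Not at h
    have := Nat.mul_le_mul h (show H.index ≤ 49 by omega)
    omega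
  obtain ⟨Q₀⟩ : Nonempty (Sylow 5 H) := inferInstance
  set Q₁ := (Q₀ : Subgroup H).map H.subtype with hQ₁
  obtain ⟨S, hS⟩ := d.sylow
  obtain ⟨S', hS'⟩ := (Q₀.isPGroup'.map H.subtype).exists_le_sylow
  obtain ⟨g, hg⟩ := MulAction.exists_smul_eq G S' S
  -- conjugate so that the Sylow subgroup of `H` lies in `P`
  set φ : G ≃* G := MulAut.conj g
  set K := H.map φ.toMonoidHom with hK
  set Q := Q₁.map φ.toMonoidHom with hQ
  have hcardK : Nat.card K = Nat.card H :=
    (Nat.card_congr (H.equivMapOfInjective _ φ.injective).toEquiv).symm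
  have hKtop : K ≠ ⊤ := by
    intro h
    apply hH
    apply Subgroup.eq_top_of_card_eq
    rw [← hcardK, h, Subgroup.card_top]
  have hQP : Q ≤ d.P := by
    rw [← hS, ← hg, Sylow.coe_subgroup_smul]
    rintro _ ⟨w, hw, rfl⟩
    exact ⟨w, hS' hw, rfl⟩
  have hQK : Q ≤ K := Subgroup.map_mono (Subgroup.map_subtype_le _)
  have hQcard : Nat.card Q = 5 ^ (Nat.card H).factorization 5 := by
    rw [← Q₀.card_eq_multiplicity, hQ, hQ₁,
      ← Nat.card_congr (((Q₀ : Subgroup H).map H.subtype).equivMapOfInjective _ φ.injective).toEquiv,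
      ← Nat.card_congr ((Q₀ : Subgroup H).equivMapOfInjective _ H.subtype_injective).toEquiv]
  have hQstab : Q ≤ MulAction.stabilizer G d.x0 := hQP.trans d.P_le
  -- orbit of the base point
  set O := MulAction.orbit K d.x0 with hO
  set Hx := K ⊓ MulAction.stabilizer G d.x0 with hHx
  have horb : O.ncard * Nat.card Hx = Nat.card K := by
    have hs : Nat.card (MulAction.stabilizer K d.x0) = Nat.card Hx := by
      refine Nat.card_congr
        { toFun := fun k => ⟨(k.1 : G), k.1.2, k.2⟩
          invFun := fun k => ⟨⟨k.1, k.2.1⟩, k.2.2⟩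
          left_inv := fun _ => rfl
          right_inv := fun _ => rfl }
    rw [← MulAction.index_stabilizer, ← hs, mul_comm, Subgroup.card_mul_index]
  have hHxle : Nat.card Hx ∣ 1000 := d.card_stabilizer ▸ Subgroup.card_dvd_of_le inf_le_right
  have hOle : O.ncard ≤ 126 := d.card_α ▸ Set.ncard_le_card O
  -- `Q` fixes the base point and acts freely on the rest of the orbit
  have hcong : Nat.card Q ∣ O.ncard - 1 := by
    let R : Set α := O \ {d.x0}
    have hR : ∀ q ∈ Q, ∀ y ∈ R, q • y ∈ R := by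
      intro q hq y hy
      refine ⟨MulAction.mem_orbit_of_mem_orbit (⟨q, hQK hq⟩ : K) hy.1, fun h => hy.2 ?_⟩
      rw [Set.mem_singleton_iff] at h ⊢
      have := congrArg (q⁻¹ • ·) h
      simpa [MulAction.mem_stabilizer_iff.1 (inv_mem (hQstab hq))] using this
    letI : MulAction Q R :=
      { smul := fun q y => ⟨(q : G) • (y : α), hR q q.2 y y.2⟩
        one_smul := fun y => Subtype.ext (one_smul G (y : α))
        mul_smul := fun q q' y => Subtype.ext (mul_smul (q : G) (q' : G) (y : α)) }
    have hfree : ∀ y : R, MulAction.stabilizer Q y = ⊥ := by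
      intro y
      refine (Subgroup.eq_bot_iff_forall _).2 fun q hq => Subtype.ext ?_
      exact d.fix q (hQP q.2) y (by simpa using y.2.2) (congrArg Subtype.val hq)
    have hcard := Nat.card_congr (MulAction.selfEquivSigmaOrbitsQuotientStabilizer Q R)
    haveI : Finite R := inferInstance
    haveI : Fintype (Quotient (MulAction.orbitRel Q R)) := Fintype.ofFinite _
    rw [Nat.card_sigma] at hcard
    have hR' : Nat.card R = O.ncard - 1 := by
      rw [Nat.card_coe_set_eq, Set.ncard_sdiff_singleton_of_mem (MulAction.mem_orbit_self _)]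
    rw [← hR', hcard]
    refine Finset.dvd_sum fun y _ => ?_
    rw [hfree, ← Subgroup.index, Subgroup.index_bot]
  have hOdvd : O.ncard ∣ Nat.card K := ⟨_, horb.symm⟩
  have hO1 : O.ncard ≠ 0 := fun h => by
    rw [h, zero_mul] at horb; exact Nat.card_pos.ne horb
  have hHdvd : Nat.card H ∣ 126000 := ⟨_, hHi.symm⟩
  set e := (Nat.card H).factorization 5 with he
  have hdiv : 5 ^ e ∣ Nat.card H := Nat.ordProj_dvd _ _
  have hndiv : ¬ 5 ^ (e + 1) ∣ Nat.card H := Nat.pow_succ_factorization_not_dvd Nat.card_pos.ne' (by norm_num)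
  have he3 : e ≤ 3 := by
    by_contra h
    have h5 : 5 ^ 4 ∣ 126000 := ((pow_dvd_pow 5 (by omega : 4 ≤ e)).trans hdiv).trans hHdvd
    norm_num at h5
  obtain ⟨t, ht⟩ := hdiv
  have htdvd : t ∣ 126000 := (Dvd.intro_left _ ht.symm).trans hHdvd
  have ht1008 : t ∣ 1008 := by
    have hc : Nat.Coprime t 125 := by
      rw [show (125 : ℕ) = 5 ^ 3 by norm_num]
      refine (Nat.Coprime.pow_right _ ?_)
      refine ((Nat.Prime.coprime_iff_not_dvd (by norm_num)).2 fun h5 => hndiv ?_).symm
      rw [ht, pow_succ]; exact mul_dvd_mul_left _ h5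
    exact hc.dvd_of_dvd_mul_right (by simpa using htdvd)
  have htle : t ≤ 1008 := Nat.le_of_dvd (by norm_num) ht1008
  -- transitivity
  have hOtop : O.ncard = 126 → ∀ y : α, ∃ h ∈ K, h • d.x0 = y := by
    intro hc y
    have hy : O = Set.univ := Set.eq_of_subset_of_ncard_le (Set.subset_univ _)
      (by rw [Set.ncard_univ, d.card_α, hc])
    obtain ⟨k, hk⟩ := (hy ▸ Set.mem_univ y : y ∈ O)
    exact ⟨k.1, k.2, hk⟩
  have hQe : Nat.card Q = 5 ^ e := hQcard
  have h1000 : Nat.card Hx ≤ 1000 := Nat.le_of_dvd (by norm_num) hHxle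
  have hO3 : 3 ≤ O.ncard := by
    by_contra h
    push Not at h
    have := Nat.mul_le_mul (show O.ncard ≤ 2 by omega) h1000
    rw [horb, hcardK] at this
    omega
  rcases Nat.lt_or_ge e 2 with he2 | he2
  · interval_cases e
    · rw [ht, pow_zero, one_mul] at hbig
      omega
    -- order 5 · 1008
    have ht' : t = 1008 := by
      rw [ht, pow_one] at hbig
      obtain ⟨u, hu⟩ := ht1008
      rcases Nat.lt_or_ge u 2 with h | h
      · interval_cases u <;> omega
      · have := Nat.mul_le_mul_left t h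
        omega
    subst ht'
    have hcK : Nat.card K = 5040 := by rw [hcardK, ht]; norm_num
    have hHx40 : Nat.card Hx ∣ 40 := by
      have := Nat.dvd_gcd (hcK ▸ Subgroup.card_dvd_of_le (inf_le_left : Hx ≤ K)) hHxle
      simpa using this
    have hle40 : Nat.card Hx ≤ 40 := Nat.le_of_dvd (by norm_num) hHx40
    have hO126 : O.ncard = 126 ∧ Nat.card Hx = 40 := by
      rw [hcK] at horb
      have h2 := Nat.mul_le_mul hOle hle40
      rcases Nat.lt_or_ge O.ncard 126 with h | h
      · have := Nat.mul_le_mul (show O.ncard ≤ 125 by omega) hle40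
        omega
      · have : O.ncard = 126 := by omega
        rw [this] at horb
        exact ⟨this, by omega⟩
    apply hKtop
    refine d.eq_top_of_mem K (hOtop hO126.1) ?_
    have hQ5 : Nat.card Q = 5 := by rw [hQe, pow_one]
    by_contra hz
    -- `Q` would be a non-central line fixed by the torus
    obtain ⟨r, hr, hr1⟩ : ∃ r ∈ Q, r ≠ 1 := by
      by_contra h
      push Not at h
      rw [(Subgroup.eq_bot_iff_forall Q).2 h, Subgroup.card_bot] at hQ5
      omega
    have hrQ : Subgroup.zpowers r = Q := by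
      refine Subgroup.eq_of_le_of_card_ge (Subgroup.zpowers_le.2 hr) ?_
      rw [hQ5, Nat.card_zpowers]
      rcases (Nat.dvd_prime (by norm_num : Nat.Prime 5)).1 (hQ5 ▸ Subgroup.orderOf_dvd_natCard Q hr) with h | h
      · exact absurd (orderOf_eq_one_iff.1 h) hr1
      · omega
    have hrz : r ∉ Subgroup.zpowers d.z := by
      intro h
      apply hz
      have : Subgroup.zpowers d.z = Q := by
        symm
        refine Subgroup.eq_of_le_of_card_ge (hrQ ▸ Subgroup.zpowers_le.2 h) ?_
        rw [Nat.card_zpowers, d.z_order, hQ5]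
      exact hQK (this ▸ Subgroup.mem_zpowers d.z)
    -- `stab = Hx · P`
    have hHP : Hx ⊔ d.P = MulAction.stabilizer G d.x0 := by
      refine Subgroup.eq_of_le_of_card_ge (sup_le inf_le_right d.P_le) ?_
      rw [d.card_stabilizer]
      have h1 : Nat.card Hx ∣ Nat.card (Hx ⊔ d.P : Subgroup G) := Subgroup.card_dvd_of_le le_sup_left
      have h2 : Nat.card d.P ∣ Nat.card (Hx ⊔ d.P : Subgroup G) := Subgroup.card_dvd_of_le le_sup_right
      rw [hO126.2] at h1
      rw [d.card_P] at h2
      exact Nat.le_of_dvd Nat.card_pos (by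
        have := Nat.lcm_dvd h1 h2
        simpa [Nat.lcm] using this)
    have hnorm : Hx ≤ Subgroup.normalizer (d.P : Set G) := by
      intro s hs
      rw [Subgroup.mem_normalizer_iff]
      intro p
      refine ⟨fun hp => d.P_normal s hs.2 p hp, fun hp => ?_⟩
      have := d.P_normal s⁻¹ (inv_mem hs.2) _ hp
      simpa [mul_assoc] using this
    have hc : d.c ∈ ((Hx ⊔ d.P : Subgroup G) : Set G) := hHP ▸ d.c_mem
    rw [Subgroup.coe_mul_of_left_le_normalizer_right Hx d.P hnorm] at hc
    obtain ⟨h, hh, p, hp, hcp⟩ := hc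
    replace hh : h ∈ K ∧ h ∈ MulAction.stabilizer G d.x0 := hh
    -- `h` normalises `Q`
    have hhr : h * r * h⁻¹ ∈ Q := by
      have hhK : h ∈ K := hh.1
      have hmem : h * r * h⁻¹ ∈ K ⊓ d.P :=
        Subgroup.mem_inf.2 ⟨mul_mem (mul_mem hhK (hQK hr)) (inv_mem hhK), d.P_normal h hh.2 r (hQP hr)⟩
      have hKP : K ⊓ d.P = Q := by
        symm
        refine Subgroup.eq_of_le_of_card_ge (le_inf hQK hQP) ?_
        have h1 : Nat.card (K ⊓ d.P : Subgroup G) ∣ 5040 := hcK ▸ Subgroup.card_dvd_of_le inf_le_left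
        have h2 : Nat.card (K ⊓ d.P : Subgroup G) ∣ 125 := d.card_P ▸ Subgroup.card_dvd_of_le inf_le_right
        rw [hQ5]
        exact Nat.le_of_dvd (by norm_num) (by simpa using Nat.dvd_gcd h1 h2)
      rwa [hKP] at hmem
    have hk := d.P_comm p hp r (hQP hr)
    have hstabh : h ∈ MulAction.stabilizer G d.x0 := hh.2
    refine d.c_cond r (hQP hr) hrz (h * r * h⁻¹) (hrQ.symm ▸ hhr)
      (h * (p * r * p⁻¹ * r⁻¹) * h⁻¹) ?_ ?_
    · obtain ⟨k, hk'⟩ := hk
      rw [← hk']
      show h * d.z ^ k * h⁻¹ ∈ Subgroup.zpowers d.z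
      rw [← conj_zpow]
      exact zpow_mem (d.z_normal h hstabh) k
    · have e1 : p * r * p⁻¹ * r⁻¹ * r = r * (p * r * p⁻¹ * r⁻¹) := by
        obtain ⟨k, hk'⟩ := hk
        have hcm : Commute d.z r := d.z_central r (hQP hr)
        rw [← hk']
        exact (hcm.zpow_left k).eq
      calc d.c * r * d.c⁻¹ = h * (p * r * p⁻¹ * r⁻¹ * r) * h⁻¹ := by
            rw [← hcp]
            simp [mul_assoc]
        _ = h * r * h⁻¹ * (h * (p * r * p⁻¹ * r⁻¹) * h⁻¹) := by
            rw [e1]; simp [mul_assoc]
  · -- `|Q| ≥ 25`: transitive and containing `z`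
    have h25 : 25 ∣ O.ncard - 1 := by
      rw [hQe] at hcong
      exact (pow_dvd_pow 5 he2).trans hcong
    have hO126 : O.ncard = 126 := by
      have hd : O.ncard ∣ 126000 := (hcardK ▸ hOdvd).trans hHdvd
      obtain ⟨k, hk⟩ := h25
      have : O.ncard = 25 * k + 1 := by omega
      rw [this] at hd
      have hk5 : k ≤ 5 := by omega
      interval_cases k <;> first | omega | norm_num at hd
    apply hKtop
    refine d.eq_top_of_mem K (hOtop hO126) (hQK ?_)
    by_contra hz
    -- a complement of order at least 25 would make `P` abelian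
    -- the centre of `P` has index at most 25 in every case; get commutativity
    obtain ⟨a, ha, b, hb, hab⟩ := d.z_comm
    apply d.z_ne
    rw [← hab]
    suffices hcomm : a * b = b * a by rw [hcomm]; group
    -- `P` is generated by `Q` and `z`, and `Q` is abelian or all of `P`
    have hQlt : Nat.card Q = 25 := by
      rw [hQe]
      rcases Nat.lt_or_ge e 3 with h | h
      · rw [show e = 2 by omega]; norm_num
      · exfalso
        have hQeq : Q = d.P := Subgroup.eq_of_le_of_card_ge hQP
          (by rw [hQe, show e = 3 by omega, d.card_P]; norm_num)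
        exact hz (hQeq ▸ d.z_mem)
    have hgen : Q ⊔ Subgroup.zpowers d.z = d.P := by
      refine Subgroup.eq_of_le_of_card_ge (sup_le hQP (Subgroup.zpowers_le.2 d.z_mem)) ?_
      have hlt : Nat.card Q < Nat.card (Q ⊔ Subgroup.zpowers d.z : Subgroup G) := by
        rcases (le_sup_left : Q ≤ Q ⊔ Subgroup.zpowers d.z).lt_or_eq with h | h
        · exact Set.ncard_lt_ncard (SetLike.coe_ssubset_coe.2 h) (Set.toFinite _)
        · exact absurd (h ▸ Subgroup.mem_sup_right (Subgroup.mem_zpowers d.z)) hz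
      have hdv : Nat.card (Q ⊔ Subgroup.zpowers d.z : Subgroup G) ∣ 5 ^ 3 := by
        rw [show 5 ^ 3 = Nat.card d.P by rw [d.card_P]; norm_num]
        exact Subgroup.card_dvd_of_le (sup_le hQP (Subgroup.zpowers_le.2 d.z_mem))
      obtain ⟨i, hi, hi'⟩ := (Nat.dvd_prime_pow (by norm_num)).1 hdv
      rw [hQlt, hi'] at hlt
      rw [hi', d.card_P]
      interval_cases i
      all_goals first
        | omega
        | norm_num at hlt
        | norm_num
    have hQab : ∀ u ∈ Q, ∀ w ∈ Q, u * w = w * u := fun u hu w hw => by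
      haveI := IsPGroup.isMulCommutative_of_card_eq_prime_sq (p := 5) (G := Q) (by rw [hQlt]; norm_num)
      have := mul_comm' (⟨u, hu⟩ : Q) ⟨w, hw⟩
      exact congrArg Subtype.val this
    have hall : d.P ≤ Subgroup.centralizer (d.P : Set G) := by
      have h1 : Q ≤ Subgroup.centralizer (d.P : Set G) := by
        intro u hu
        rw [Subgroup.mem_centralizer_iff]
        intro w hw
        have hw' : w ∈ Q ⊔ Subgroup.zpowers d.z := hgen.symm ▸ hw
        have : Q ⊔ Subgroup.zpowers d.z ≤ Subgroup.centralizer ({u} : Set G) := by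
          refine sup_le (fun v hv => Subgroup.mem_centralizer_iff.2 fun s hs => ?_)
            (Subgroup.zpowers_le.2 (Subgroup.mem_centralizer_iff.2 fun s hs => ?_))
          · rw [Set.mem_singleton_iff.1 hs]; exact hQab u hu v hv
          · rw [Set.mem_singleton_iff.1 hs]; exact (d.z_central u (hQP hu)).symm
        exact (Subgroup.mem_centralizer_iff.1 (this hw') u rfl).symm
      calc d.P = Q ⊔ Subgroup.zpowers d.z := hgen.symm
        _ ≤ _ := sup_le h1 (Subgroup.zpowers_le.2
          (Subgroup.mem_centralizer_iff.2 fun w hw => (d.z_central w hw).symm))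
    exact Subgroup.mem_centralizer_iff.1 (hall hb) a ha

end Cfsg.Agent.U35
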