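import Cfsg.Agent.Lib.U35.Act
import Cfsg.Agent.Lib.U35.Check
import Cfsg.Agent.Lib.U35.Group
import Cfsg.Agent.Lib.Classical.HermSU
import Cfsg.Agent.Lib.Classical.UnitaryStd
import Cfsg.Agent.S0283

/-! PSU₃(5) as a group of permutations of 126 points, and its subgroups of small index. -/

set_option autoImplicit false
set_option maxRecDepth 20000

namespace Cfsg.Agent.U35

open Cfsg.Agent.PermCert Matrix

theorem card_fixed25 : Nat.card (Hermitian.fixed F25.conj) = 5 := by
  have h := Hermitian.card_eq_sq F25.conj_ne_id F25.conj_conj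
  rw [Nat.card_eq_fintype_card, F25.card] at h
  exact Nat.pow_left_injective two_ne_zero (show _ ^ 2 = 5 ^ 2 from h.symm.trans (by norm_num))

theorem card_SU25 : Nat.card SU25 = 378000 := by
  have h := HermSU.card_SU_mul (n := 3) F25.conj_ne_id F25.conj_conj F25.conj_eq_pow (by norm_num)
    card_fixed25
  rw [HermStd.card_GU F25.conj_ne_id F25.conj_conj F25.conj_eq_pow 3 card_fixed25] at h
  simp [Finset.prod_range_succ, Nat.even_iff] at h
  norm_num at h
  show Nat.card ↥(Cfsg.SU 3 F25 5) = 378000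
  omega

theorem card_center : Nat.card (Subgroup.center SU25) = 3 := by
  rw [HermSU.card_center_SU F25.conj_ne_id F25.conj_conj F25.conj_eq_pow (by norm_num) card_fixed25]
  norm_num

theorem center_le_ker : Subgroup.center SU25 ≤ iota.ker := by
  intro z hz
  obtain ⟨c, hc⟩ := HermSU.scalar_of_commute F25.conj_ne_id F25.conj_conj F25.conj_eq_pow
    (by norm_num) card_fixed25 (z.1 : Matrix (Fin 3) (Fin 3) F25) fun A hA =>
      congrArg (fun X : SU25 => (X.1 : Matrix (Fin 3) (Fin 3) F25))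
        (Subgroup.mem_center_iff.1 hz ⟨A, hA⟩).symm
  refine iota_scalar z (c := c) (fun h0 => ?_) hc
  have hd := z.1.2
  rw [hc, h0, Matrix.det_diagonal] at hd
  simp at hd

theorem mats_ok : (matA.det = 1 ∧ matAᵀ * matA.map F25.conj = 1) ∧
    (matB.det = 1 ∧ matBᵀ * matB.map F25.conj = 1) := by
  rw [Matrix.det_fin_three, Matrix.det_fin_three]
  decide +kernel

/-- The first generator of SU₃(5). -/
def suA : SU25 :=
  ⟨⟨matA, mats_ok.1.1⟩, (HermSU.mem_SU_iff (q := 5) F25.conj_eq_pow _).2 mats_ok.1.2⟩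

/-- The second generator of SU₃(5). -/
def suB : SU25 :=
  ⟨⟨matB, mats_ok.2.1⟩, (HermSU.mem_SU_iff (q := 5) F25.conj_eq_pow _).2 mats_ok.2.2⟩

theorem act_gens : ∀ u : Fin 126,
    ((actPt matA u : Fin 126) : ℕ) = get 7 (g35Gens.getD 0 (0, 0)).1 u ∧
      ((actPt matB u : Fin 126) : ℕ) = get 7 (g35Gens.getD 1 (0, 0)).1 u := by
  decide +kernel

theorem length_gens : g35Gens.length = 2 := rfl

theorem gens_valid : ∀ e ∈ g35Gens, validElt 7 126 e = true := by
  have h := g35_cert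
  simp only [checkCert, Bool.and_eq_true, List.all_eq_true] at h
  exact h.1.1.1.1.2

/-- The group on 126 points. -/
abbrev G126 : Subgroup (Equiv.Perm (Fin 126)) := genGroup 7 126 g35Gens

theorem card_G126 : Nat.card G126 = 126000 := by rw [cert_card g35_cert, g35_order]

theorem G126_le : G126 ≤ iota.range := by
  refine (Subgroup.closure_le _).2 fun σ hσ => ?_
  obtain ⟨e, he, rfl⟩ := List.mem_map.1 hσ
  obtain ⟨k, hk, rfl⟩ := List.getElem_of_mem he
  have hv := rep_toPerm (gens_valid _ (List.getElem_mem hk))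
  rw [length_gens] at hk
  have hcases : k = 0 ∨ k = 1 := by omega
  rcases hcases with rfl | rfl
  · refine ⟨suA, Equiv.ext fun u => Fin.ext ?_⟩
    rw [← (hv u).1]
    exact (act_gens u).1
  · refine ⟨suB, Equiv.ext fun u => Fin.ext ?_⟩
    rw [← (hv u).1]
    exact (act_gens u).2

theorem iota_range : iota.range = G126 ∧ iota.ker = Subgroup.center SU25 := by
  haveI : Finite SU25 := Nat.finite_of_card_ne_zero (by rw [card_SU25]; norm_num)
  have hk : 3 ≤ Nat.card iota.ker := card_center.symm.le.trans (Subgroup.card_le_of_le center_le_ker)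
  have hr : 126000 ≤ Nat.card iota.range := card_G126.symm.le.trans (Subgroup.card_le_of_le G126_le)
  have h := iota.ker.card_mul_index
  rw [Subgroup.index_ker, card_SU25] at h
  have h1 : Nat.card iota.range = 126000 ∧ Nat.card iota.ker = 3 := by
    have hk' : Nat.card iota.ker ≤ 3 := by
      by_contra hcon
      push Not at hcon
      have := Nat.mul_le_mul hcon hr
      omega
    have hk3 : Nat.card iota.ker = 3 := by omega
    rw [hk3] at h
    exact ⟨by omega, hk3⟩
  exact ⟨(Subgroup.eq_of_le_of_card_ge G126_le (by rw [card_G126, h1.1])).symm,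
    (Subgroup.eq_of_le_of_card_ge center_le_ker (by rw [card_center, h1.2])).symm⟩

/-- PSU₃(5) as permutations of 126 points. -/
noncomputable def psuEquiv : Cfsg.PSU 3 F25 5 ≃* G126 :=
  ((QuotientGroup.quotientMulEquivOfEq iota_range.2.symm).trans
    (QuotientGroup.quotientKerEquivRange iota)).trans (MulEquiv.subgroupCongr iota_range.1)

theorem simple : IsSimpleGroup G126 := by
  haveI := S0283.result (q := 5) (show Fintype.card F25 = 5 ^ 2 by rw [F25.card]; norm_num) 3 le_rfl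
    (by norm_num)
  haveI : Nontrivial G126 := Finite.one_lt_card_iff_nontrivial.1 (by rw [card_G126]; norm_num)
  exact IsSimpleGroup.isSimpleGroup_of_surjective (H := ↥G126) psuEquiv.toMonoidHom psuEquiv.surjective

/-- A table as a permutation. -/
abbrev pm (e : Elt) : Equiv.Perm (Fin 126) := toPerm 7 126 e

theorem pm_fn {e : Elt} (h : validElt 7 126 e = true) (i : Fin 126) : pm e i = fn e i := by
  refine Fin.ext ?_
  rw [← (rep_toPerm h i).1, fn, Fin.val_ofNat, (rep_toPerm h i).1, Nat.mod_eq_of_lt (Fin.is_lt _)]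

theorem code_eq {c : ℕ} {e : Elt} {σ : Equiv.Perm (Fin 126)} (he : validElt 7 126 e = true)
    (hσ : ∀ i : Fin 126, get 7 c i = (σ i : ℕ)) (h : Nat.beq e.1 c = true) : pm e = σ := by
  refine Equiv.ext fun i => Fin.ext ?_
  rw [← (rep_toPerm he i).1, Nat.eq_of_beq_eq_true h, hσ]

theorem get_mul {a b : ℕ} {σ τ : Equiv.Perm (Fin 126)} (ha : ∀ i : Fin 126, get 7 a i = (σ i : ℕ))
    (hb : ∀ i : Fin 126, get 7 b i = (τ i : ℕ)) (i : Fin 126) :
    get 7 (comp 7 126 a b) i = ((σ * τ) i : ℕ) := by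
  rw [get_comp _ _ _ _ _ i.2, hb i, ha (τ i)]
  rfl

theorem get_one (i : Fin 126) : get 7 (idCode 7 126) i = ((1 : Equiv.Perm (Fin 126)) i : ℕ) :=
  get_idCode 7 126 i (by norm_num) i.2

theorem get_pm {e : Elt} (h : validElt 7 126 e = true) (i : Fin 126) : get 7 e.1 i = (pm e i : ℕ) :=
  (rep_toPerm h i).1

theorem get_pm_inv {e : Elt} (h : validElt 7 126 e = true) (i : Fin 126) :
    get 7 e.2 i = ((pm e)⁻¹ i : ℕ) :=
  (rep_toPerm h i).2

theorem b35_valid : validElt 7 126 ea = true ∧ validElt 7 126 eb = true ∧ validElt 7 126 ec = true := by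
  obtain ⟨h1, -, h3, -⟩ := small_ok
  rw [h3] at h1
  exact ⟨(h1 _ (by simp)).1, (h1 _ (by simp)).1, (h1 _ (by simp)).1⟩

theorem ez_valid : validElt 7 126 ez = true := small_ok.2.2.2

theorem get_powC {e : Elt} (h : validElt 7 126 e = true) : ∀ (k : ℕ) (i : Fin 126),
    get 7 (powC e k) i = ((pm e ^ k) i : ℕ)
  | 0, i => get_one i
  | k + 1, i => by
    rw [pow_succ', powC]
    exact get_mul (get_pm h) (get_powC h k) i

/-- The Borel group. -/
abbrev B35 : Subgroup (Equiv.Perm (Fin 126)) := genGroup 7 126 b35Gens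

/-- The tables of the Sylow subgroup as permutations. -/
def pSet : Set (Equiv.Perm (Fin 126)) := {σ | ∃ r ∈ pList, pm r = σ}

/-- The Sylow subgroup. -/
abbrev P35 : Subgroup (Equiv.Perm (Fin 126)) := Subgroup.closure {pm ea, pm eb}

theorem P35_gen : P35 = genGroup 7 126 p35Gens := by
  rw [p35_gens]
  exact congrArg Subgroup.closure (Set.ext fun σ => by simp)

theorem card_P35 : Nat.card P35 = 125 := by rw [P35_gen, cert_card p35_cert, p35_order]

theorem p_mem_code {c : ℕ} {σ : Equiv.Perm (Fin 126)} (hσ : ∀ i : Fin 126, get 7 c i = (σ i : ℕ))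
    (h : (pList.any fun s => Nat.beq s.1 c) = true) : σ ∈ pSet := by
  obtain ⟨s, hs, he⟩ := List.any_eq_true.1 h
  exact ⟨s, hs, code_eq (p_valid s hs).1 hσ he⟩

theorem P35_subset : (P35 : Set (Equiv.Perm (Fin 126))) ⊆ pSet := by
  intro σ hσ
  have h1 : σ ∈ Submonoid.closure ({pm ea, pm eb} : Set (Equiv.Perm (Fin 126))) := by
    rw [← SetLike.mem_coe, ← closure_carrier]
    exact hσ
  induction h1 using Submonoid.closure_induction_left with
  | one => exact p_mem_code get_one p_mul.1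
  | mul_left g hg w hw ih =>
    obtain ⟨r, hr, rfl⟩ := ih (by rw [SetLike.mem_coe, ← SetLike.mem_coe, closure_carrier]; exact hw)
    have h := p_mul.2
    simp only [List.all_eq_true] at h
    rcases hg with rfl | hg
    · exact p_mem_code (get_mul (get_pm b35_valid.1) (get_pm (p_valid r hr).1)) (h ea (by simp) r hr)
    · rw [Set.mem_singleton_iff.1 hg]
      exact p_mem_code (get_mul (get_pm b35_valid.2.1) (get_pm (p_valid r hr).1)) (h eb (by simp) r hr)

theorem P35_eq : (P35 : Set (Equiv.Perm (Fin 126))) = pSet := by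
  refine Set.Subset.antisymm P35_subset ?_
  rintro _ ⟨r, hr, rfl⟩
  obtain ⟨h1, h2⟩ := p_valid r hr
  rw [P35_gen]
  exact cert_mem p35_cert h1 h2

theorem pm_ez : pm ea * pm eb * (pm ea)⁻¹ * (pm eb)⁻¹ = pm ez := by
  have h := p_abz.2.2.2.1
  have e := code_eq ez_valid
    (get_mul (get_pm b35_valid.1) (get_mul (get_pm b35_valid.2.1)
      (get_mul (get_pm_inv b35_valid.1) (get_pm_inv b35_valid.2.1))))
    (by rw [Nat.eq_of_beq_eq_true h]; exact Nat.beq_refl _)
  rw [e]
  group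

theorem ez_mem : pm ez ∈ P35 := by
  rw [← pm_ez]
  have ha : pm ea ∈ P35 := Subgroup.subset_closure (by simp)
  have hb : pm eb ∈ P35 := Subgroup.subset_closure (by simp)
  exact mul_mem (mul_mem (mul_mem ha hb) (inv_mem ha)) (inv_mem hb)

theorem P35_le_B35 : P35 ≤ B35 := by
  refine (Subgroup.closure_le _).2 ?_
  have h : ∀ e ∈ b35Gens, pm e ∈ B35 := fun e he => Subgroup.subset_closure (List.mem_map.2 ⟨e, he, rfl⟩)
  rw [small_ok.2.2.1] at h
  rintro g (rfl | hg)
  · exact h ea (by simp)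
  · rw [Set.mem_singleton_iff.1 hg]; exact h eb (by simp)

theorem B35_le : B35 ≤ G126 := by
  refine (Subgroup.closure_le _).2 fun σ hσ => ?_
  obtain ⟨e, he, rfl⟩ := List.mem_map.1 hσ
  obtain ⟨h1, h2, -⟩ := small_ok.1 e he
  exact cert_mem g35_cert h1 h2

theorem B35_fix : ∀ σ ∈ B35, σ 0 = 0 := by
  intro σ hσ
  have hle : B35 ≤ MulAction.stabilizer (Equiv.Perm (Fin 126)) (0 : Fin 126) := by
    refine (Subgroup.closure_le _).2 fun τ hτ => ?_
    obtain ⟨e, he, rfl⟩ := List.mem_map.1 hτ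
    obtain ⟨h1, -, h3⟩ := small_ok.1 e he
    show pm e 0 = 0
    rw [pm_fn h1, h3]
  exact hle hσ

theorem zpow_mem_of_gens (σ : Equiv.Perm (Fin 126)) (hσ : σ ∈ B35) :
    ∀ p ∈ Subgroup.zpowers (pm ez), σ * p * σ⁻¹ ∈ Subgroup.zpowers (pm ez) := by
  have hle : B35 ≤ Subgroup.normalizer (Subgroup.zpowers (pm ez) : Set (Equiv.Perm (Fin 126))) := by
    refine (Subgroup.closure_le _).2 fun τ hτ => ?_
    obtain ⟨g, hg, rfl⟩ := List.mem_map.1 hτ
    have hgv := (small_ok.1 g hg).1
    have h := z_normal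
    simp only [List.all_eq_true, List.any_eq_true] at h
    obtain ⟨k, -, hk⟩ := h g hg
    refine SetLike.mem_coe.2 (mem_normalizer_of_map_le _ _ fun x hx => ?_)
    obtain ⟨i, rfl⟩ := hx
    show pm g * pm ez ^ i * (pm g)⁻¹ ∈ _
    rw [← conj_zpow]
    refine zpow_mem (Subgroup.mem_zpowers_iff.2 ⟨(k : ℤ), ?_⟩) i
    rw [zpow_natCast]
    refine Equiv.ext fun u => Fin.ext ?_
    rw [← get_powC ez_valid k u, Nat.eq_of_beq_eq_true hk,
      get_mul (get_pm hgv) (get_mul (get_pm ez_valid) (get_pm_inv hgv)) u]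
    rw [mul_assoc]
  exact fun p hp => (Subgroup.mem_normalizer_iff.1 (hle hσ) p).1 hp
where
  mem_normalizer_of_map_le (g : Equiv.Perm (Fin 126)) (S : Subgroup (Equiv.Perm (Fin 126)))
      (h : ∀ x ∈ S, g * x * g⁻¹ ∈ S) : g ∈ Subgroup.normalizer (S : Set (Equiv.Perm (Fin 126))) := by
    have hmap : S.map (MulAut.conj g).toMonoidHom = S := by
      refine Subgroup.eq_of_le_of_card_ge ?_ ?_
      · rintro _ ⟨x, hx, rfl⟩
        exact h x hx
      · exact (Nat.card_congr (S.equivMapOfInjective _ (MulAut.conj g).injective).toEquiv).le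
    rw [Subgroup.mem_normalizer_iff]
    intro x
    refine ⟨fun hx => h x hx, fun hx => ?_⟩
    rw [← hmap] at hx
    obtain ⟨y, hy, he⟩ := hx
    have : y = x := (MulAut.conj g).injective he
    exact this ▸ hy

theorem comm_mem : ∀ p ∈ P35, ∀ r ∈ P35, p * r * p⁻¹ * r⁻¹ ∈ Subgroup.zpowers (pm ez) := by
  intro p hp r hr
  set Z := Subgroup.zpowers (pm ez)
  set N := Subgroup.normalizer (Z : Set (Equiv.Perm (Fin 126)))
  have hN : P35 ≤ N := fun x hx => by
    rw [Subgroup.mem_normalizer_iff]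
    intro y
    refine ⟨fun hy => zpow_mem_of_gens x (P35_le_B35 hx) y hy, fun hy => ?_⟩
    have := zpow_mem_of_gens x⁻¹ (inv_mem (P35_le_B35 hx)) _ hy
    simpa [mul_assoc] using this
  let K := Z.subgroupOf N
  haveI : K.Normal := Subgroup.normal_in_normalizer
  let π := QuotientGroup.mk' K
  have ha : pm ea ∈ P35 := Subgroup.subset_closure (by simp)
  have hb : pm eb ∈ P35 := Subgroup.subset_closure (by simp)
  have hab : π ⟨pm ea, hN ha⟩ * π ⟨pm eb, hN hb⟩ = π ⟨pm eb, hN hb⟩ * π ⟨pm ea, hN ha⟩ := by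
    have h1 : π (⟨pm ea, hN ha⟩ * ⟨pm eb, hN hb⟩ * (⟨pm ea, hN ha⟩)⁻¹ * (⟨pm eb, hN hb⟩)⁻¹) = 1 := by
      rw [QuotientGroup.mk'_apply, QuotientGroup.eq_one_iff, Subgroup.mem_subgroupOf]
      show pm ea * pm eb * (pm ea)⁻¹ * (pm eb)⁻¹ ∈ Z
      rw [pm_ez]
      exact Subgroup.mem_zpowers _
    rw [map_mul, map_mul, map_mul, map_inv, map_inv, mul_inv_eq_one, mul_inv_eq_iff_eq_mul] at h1
    exact h1
  set S : Subgroup N := P35.subgroupOf N
  have hS : S = Subgroup.closure {⟨pm ea, hN ha⟩, ⟨pm eb, hN hb⟩} := by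
    refine Subgroup.map_injective N.subtype_injective ?_
    rw [MonoidHom.map_closure, Subgroup.map_subgroupOf_eq_of_le hN, Set.image_pair]
    rfl
  have hcomm : ∀ x ∈ S.map π, ∀ y ∈ S.map π, x * y = y * x := by
    have heq : S.map π = Subgroup.closure {π ⟨pm ea, hN ha⟩, π ⟨pm eb, hN hb⟩} := by
      rw [hS, MonoidHom.map_closure, Set.image_pair]
    rw [heq]
    haveI := Subgroup.isMulCommutative_closure (k := {π ⟨pm ea, hN ha⟩, π ⟨pm eb, hN hb⟩}) (by
      rintro x (rfl | rfl) y (rfl | rfl)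
      exacts [rfl, hab, hab.symm, rfl])
    intro x hx y hy
    exact congrArg Subtype.val (mul_comm'
      (⟨x, hx⟩ : Subgroup.closure {π ⟨pm ea, hN ha⟩, π ⟨pm eb, hN hb⟩}) ⟨y, hy⟩)
  have h := hcomm _ ⟨⟨p, hN hp⟩, hp, rfl⟩ _ ⟨⟨r, hN hr⟩, hr, rfl⟩
  have h1 : π (⟨p, hN hp⟩ * ⟨r, hN hr⟩ * (⟨p, hN hp⟩)⁻¹ * (⟨r, hN hr⟩)⁻¹) = 1 := by
    rw [map_mul, map_mul, map_mul, map_inv, map_inv, h]
    group
  rw [QuotientGroup.mk'_apply, QuotientGroup.eq_one_iff, Subgroup.mem_subgroupOf] at h1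
  exact h1

theorem P35_normal (σ : Equiv.Perm (Fin 126)) (hσ : σ ∈ B35) :
    ∀ p ∈ P35, σ * p * σ⁻¹ ∈ P35 := by
  have hle : B35 ≤ Subgroup.normalizer (P35 : Set (Equiv.Perm (Fin 126))) := by
    refine (Subgroup.closure_le _).2 fun τ hτ => ?_
    obtain ⟨g, hg, rfl⟩ := List.mem_map.1 hτ
    have hgv := (small_ok.1 g hg).1
    have h := p_normal
    simp only [List.all_eq_true] at h
    have hgen : ∀ r ∈ [ea, eb], pm g * pm r * (pm g)⁻¹ ∈ P35 := by
      intro r hr
      have hrv : validElt 7 126 r = true := by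
        simp only [List.mem_cons, List.not_mem_nil, or_false] at hr
        rcases hr with rfl | rfl
        exacts [b35_valid.1, b35_valid.2.1]
      obtain ⟨s, hs, he⟩ := List.any_eq_true.1 (h g hg r hr)
      have e := code_eq (p_valid s hs).1 (get_mul (get_pm hgv) (get_mul (get_pm hrv) (get_pm_inv hgv))) he
      rw [mul_assoc, ← e]
      exact P35_eq.ge ⟨s, hs, rfl⟩
    refine SetLike.mem_coe.2 (zpow_mem_of_gens.mem_normalizer_of_map_le _ _ fun x hx => ?_)
    have : P35 ≤ P35.comap (MulAut.conj (pm g)).toMonoidHom := by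
      refine (Subgroup.closure_le _).2 ?_
      rintro r (rfl | hr)
      · exact hgen ea (by simp)
      · rw [Set.mem_singleton_iff.1 hr]; exact hgen eb (by simp)
    exact this hx
  exact fun p hp => (Subgroup.mem_normalizer_iff.1 (hle hσ) p).1 hp

end Cfsg.Agent.U35
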