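import Cfsg.Agent.Lib.U35.Pts
import Cfsg.Prelude.Def_Classical

/-! The action of SU₃(5) on the 126 isotropic points. -/

set_option autoImplicit false
set_option maxRecDepth 20000

namespace Cfsg.Agent.U35

open Matrix

/-- The Hermitian norm of a vector. -/
def h25 (v : Fin 3 → F25) : F25 := v 0 * F25.conj (v 0) + v 1 * F25.conj (v 1) + v 2 * F25.conj (v 2)

/-- The first non-zero coordinate (or zero). -/
def lead25 (v : Fin 3 → F25) : F25 :=
  if v 0 = 0 then (if v 1 = 0 then v 2 else v 1) else v 0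

/-- The normalised multiple of a vector. -/
def nz (v : Fin 3 → F25) : Fin 3 → F25 :=
  ![(lead25 v)⁻¹ * v 0, (lead25 v)⁻¹ * v 1, (lead25 v)⁻¹ * v 2]

/-- The point of a given index. -/
def pt (u : Fin 126) : Fin 3 → F25 := ptList.getD u ![0, 0, 0]

/-- Same coordinates. -/
def veq (v w : Fin 3 → F25) : Bool := v 0 == w 0 && v 1 == w 1 && v 2 == w 2

/-- The index of a point. -/
def ptIdx (v : Fin 3 → F25) : Fin 126 := Fin.ofNat 126 (ptList.findIdx (fun w => veq w (nz v)))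

/-- An isotropic point. -/
def Iso (v : Fin 3 → F25) : Prop := h25 v = 0 ∧ lead25 v ≠ 0

theorem ptIdx_pt : ∀ u : Fin 126, ptIdx (pt u) = u ∧ h25 (pt u) = 0 ∧ lead25 (pt u) ≠ 0 := by
  decide +kernel

theorem pt_complete : ∀ a b c : F25, h25 ![a, b, c] = 0 → lead25 ![a, b, c] ≠ 0 →
    pt (ptIdx ![a, b, c]) = nz ![a, b, c] := by
  decide +kernel

theorem pt_ptIdx {v : Fin 3 → F25} (h : Iso v) : pt (ptIdx v) = nz v := by
  have e : v = ![v 0, v 1, v 2] := funext fun i => by fin_cases i <;> rfl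
  obtain ⟨h1, h2⟩ := h
  rw [e] at h1 h2 ⊢
  exact pt_complete _ _ _ h1 h2

theorem nz_smul {c : F25} (hc : c ≠ 0) (v : Fin 3 → F25) : nz (c • v) = nz v := by
  have hl : lead25 (c • v) = c * lead25 v := by
    simp only [lead25, Pi.smul_apply, smul_eq_mul, mul_eq_zero, hc, false_or]
    split_ifs <;> rfl
  funext i
  simp only [nz, hl, Pi.smul_apply, smul_eq_mul]
  have key : ∀ z : F25, (lead25 v)⁻¹ * c⁻¹ * (c * z) = (lead25 v)⁻¹ * z := fun z => by
    rw [mul_assoc, inv_mul_cancel_left₀ hc]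
  fin_cases i <;> simp [key]

theorem nz_eq_smul (v : Fin 3 → F25) : nz v = (lead25 v)⁻¹ • v := by
  funext i
  fin_cases i <;> simp [nz]

theorem lead25_eq_zero {v : Fin 3 → F25} (h : lead25 v = 0) : v = 0 := by
  funext i
  simp only [lead25] at h
  split_ifs at h with h0 h1
  · fin_cases i <;> simp [h, h0, h1]
  · exact absurd h h1
  · exact absurd h h0

theorem h25_eq (v : Fin 3 → F25) : h25 v = Cfsg.hermForm 3 F25 5 v v := by
  simp [h25, Cfsg.hermForm, Fin.sum_univ_three, F25.conj_eq_pow]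

/-- SU₃ over the field with 25 elements. -/
abbrev SU25 : Subgroup (Matrix.SpecialLinearGroup (Fin 3) F25) := Cfsg.SU 3 F25 5

/-- The action on points. -/
def actPt (M : Matrix (Fin 3) (Fin 3) F25) (u : Fin 126) : Fin 126 := ptIdx (M *ᵥ pt u)

theorem iso_mulVec (g : SU25) {v : Fin 3 → F25} (h : Iso v) :
    Iso ((g.1 : Matrix (Fin 3) (Fin 3) F25) *ᵥ v) := by
  refine ⟨?_, fun h0 => ?_⟩
  · rw [h25_eq]
    refine (g.2 v v).trans ?_
    rw [← h25_eq, h.1]
  · have h1 := congrArg (fun w => ((g⁻¹ : SU25).1 : Matrix (Fin 3) (Fin 3) F25) *ᵥ w) (lead25_eq_zero h0)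
    simp only [Matrix.mulVec_mulVec, Matrix.mulVec_zero] at h1
    rw [show ((g⁻¹ : SU25).1 : Matrix (Fin 3) (Fin 3) F25) * g.1.1 =
      ((g⁻¹ * g : SU25).1 : Matrix (Fin 3) (Fin 3) F25) from rfl, inv_mul_cancel,
      show (((1 : SU25).1 : Matrix.SpecialLinearGroup (Fin 3) F25) : Matrix (Fin 3) (Fin 3) F25) = 1 from rfl,
      Matrix.one_mulVec] at h1
    exact h.2 (by rw [h1]; simp [lead25])

theorem iso_pt (u : Fin 126) : Iso (pt u) := (ptIdx_pt u).2

theorem actPt_mul (g h : SU25) (u : Fin 126) :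
    actPt ((g * h : SU25).1 : Matrix (Fin 3) (Fin 3) F25) u =
      actPt (g.1 : Matrix (Fin 3) (Fin 3) F25) (actPt (h.1 : Matrix (Fin 3) (Fin 3) F25) u) := by
  have hi := iso_mulVec h (iso_pt u)
  simp only [actPt]
  rw [pt_ptIdx hi, nz_eq_smul, Matrix.mulVec_smul]
  unfold ptIdx
  rw [nz_smul (inv_ne_zero hi.2), Matrix.mulVec_mulVec]
  rfl

theorem actPt_one (u : Fin 126) : actPt ((1 : SU25).1 : Matrix (Fin 3) (Fin 3) F25) u = u := by
  show ptIdx ((1 : Matrix (Fin 3) (Fin 3) F25) *ᵥ pt u) = u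
  rw [Matrix.one_mulVec, (ptIdx_pt u).1]

/-- The permutation representation on the isotropic points. -/
def iota : SU25 →* Equiv.Perm (Fin 126) :=
  @MulAction.toPermHom SU25 (Fin 126) _
    { smul := fun g u => actPt (g.1 : Matrix (Fin 3) (Fin 3) F25) u
      one_smul := actPt_one
      mul_smul := actPt_mul }

theorem iota_apply (g : SU25) (u : Fin 126) :
    iota g u = actPt (g.1 : Matrix (Fin 3) (Fin 3) F25) u := rfl

theorem iota_scalar (g : SU25) {c : F25} (hc : c ≠ 0)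
    (hg : (g.1 : Matrix (Fin 3) (Fin 3) F25) = Matrix.diagonal fun _ => c) : iota g = 1 := by
  refine Equiv.ext fun u => ?_
  rw [iota_apply, hg, actPt, show (Matrix.diagonal fun _ => c) *ᵥ pt u = c • pt u from
    funext fun i => by rw [Matrix.mulVec_diagonal]; rfl]
  unfold ptIdx
  rw [nz_smul hc]
  exact (ptIdx_pt u).1

end Cfsg.Agent.U35
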