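import Cfsg.Agent.Lib.U35.Model

/-! The subgroups of small index of PSU₃(5). -/

set_option autoImplicit false

namespace Cfsg.Agent.U35

open Cfsg.Agent.PermCert

theorem ec_mem : pm ec ∈ G126 ∧ pm ec 0 = 0 := by
  have h : pm ec ∈ B35 := by
    refine Subgroup.subset_closure (List.mem_map.2 ⟨ec, ?_, rfl⟩)
    rw [small_ok.2.2.1]; simp
  exact ⟨B35_le h, B35_fix _ h⟩

theorem transitive : ∀ i : Fin 126, ∃ g ∈ G126, g 0 = i := by
  intro i
  obtain ⟨e, he, hi⟩ := orb_cover i
  obtain ⟨h1, h2⟩ := orb_ok e he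
  exact ⟨pm e, cert_mem g35_cert h1 h2, by rw [pm_fn h1, hi]⟩

theorem stab_eq (g : Equiv.Perm (Fin 126)) (hg : g ∈ G126) (h0 : g 0 = 0) : g ∈ B35 := by
  haveI : MulAction.IsPretransitive G126 (Fin 126) := by
    refine ⟨fun x y => ?_⟩
    obtain ⟨a, ha, hax⟩ := transitive x
    obtain ⟨b, hb, hby⟩ := transitive y
    refine ⟨⟨b * a⁻¹, mul_mem hb (inv_mem ha)⟩, ?_⟩
    show (b * a⁻¹) x = y
    rw [← hax, Equiv.Perm.mul_apply, show a⁻¹ (a 0) = 0 from a.symm_apply_apply 0, hby]
  set S := MulAction.stabilizer G126 (0 : Fin 126)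
  have hS : Nat.card S = 1000 := by
    have h := S.card_mul_index
    rw [MulAction.index_stabilizer_of_transitive, card_G126, Nat.card_fin] at h
    omega
  have hle : B35.subgroupOf G126 ≤ S := fun x hx => B35_fix _ hx
  have heq : B35.subgroupOf G126 = S := by
    refine Subgroup.eq_of_le_of_card_ge hle ?_
    rw [hS, Nat.card_congr (Subgroup.subgroupOfEquivOfLe B35_le).toEquiv, cert_card b35_cert, b35_order]
  exact heq.ge (show (⟨g, hg⟩ : G126) ∈ S from h0)

/-- The configuration for PSU₃(5). -/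
noncomputable def data : Data G126 (Fin 126) where
  x0 := 0
  P := P35.subgroupOf G126
  z := ⟨pm ez, (P35_le_B35.trans B35_le) ez_mem⟩
  c := ⟨pm ec, ec_mem.1⟩
  card_G := card_G126
  card_α := Nat.card_fin 126
  trans := ⟨fun x y => by
    obtain ⟨a, ha, hax⟩ := transitive x
    obtain ⟨b, hb, hby⟩ := transitive y
    refine ⟨⟨b * a⁻¹, mul_mem hb (inv_mem ha)⟩, ?_⟩
    show (b * a⁻¹) x = y
    rw [← hax, Equiv.Perm.mul_apply, show a⁻¹ (a 0) = 0 from a.symm_apply_apply 0, hby]⟩
  card_P := by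
    rw [Nat.card_congr (Subgroup.subgroupOfEquivOfLe (P35_le_B35.trans B35_le)).toEquiv, card_P35]
  P_le := fun x hx => B35_fix _ (P35_le_B35 hx)
  fix := by
    intro p hp y hy hpy
    obtain ⟨r, hr, hrp⟩ := P35_subset hp
    replace hrp : pm r = (p : Equiv.Perm (Fin 126)) := hrp
    have h := p_fix
    simp only [List.all_eq_true, Bool.or_eq_true] at h
    have hv := (p_valid r hr).1
    rcases h r hr with h1 | h1
    · refine Subtype.ext ?_
      rw [← hrp]
      exact code_eq hv get_one h1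
    · have h2 := allBelow_spec _ _ h1 y.val y.2
      simp only [Bool.or_eq_true, Nat.beq_eq, Bool.not_eq_true'] at h2
      rcases h2 with h2 | h2
      · exact absurd (Fin.ext h2) hy
      · refine absurd ?_ (Nat.ne_of_beq_eq_false h2)
        rw [get_pm hv y, hrp]
        exact congrArg Fin.val hpy
  z_mem := ez_mem
  z_ne := fun h => by
    have hz : pm ez = 1 := congrArg Subtype.val h
    have h1 := p_abz.2.2.1
    apply Nat.ne_of_beq_eq_false h1
    have hw : ∀ i : Fin 126, get 7 ez.1 i = get 7 (idCode 7 126) i := fun i => by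
      rw [get_pm ez_valid, hz, get_one]
    exact code_canon hw
  z_order := by
    haveI : Fact (Nat.Prime 5) := ⟨by norm_num⟩
    rw [← Subgroup.orderOf_coe]
    refine orderOf_eq_prime ?_ fun hz => ?_
    · refine Equiv.ext fun u => Fin.ext ?_
      rw [← get_powC ez_valid 5 u, ← get_one u, z_pow_five]
    · have h1 := p_abz.2.2.1
      exact Nat.ne_of_beq_eq_false h1 (code_canon (e := idCode 7 126) fun i => by rw [get_pm ez_valid, show pm ez = 1 from hz, get_one])
  z_central := by
    intro p hp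
    refine Subtype.ext ?_
    show pm ez * (p : Equiv.Perm (Fin 126)) = p * pm ez
    have hle : P35 ≤ Subgroup.centralizer ({pm ez} : Set (Equiv.Perm (Fin 126))) := by
      refine (Subgroup.closure_le _).2 ?_
      have key : ∀ e : Elt, validElt 7 126 e = true →
          Nat.beq (comp 7 126 ez.1 e.1) (comp 7 126 e.1 ez.1) = true → pm ez * pm e = pm e * pm ez := by
        intro e he h
        refine Equiv.ext fun i => Fin.ext ?_
        rw [← get_mul (get_pm ez_valid) (get_pm he), ← get_mul (get_pm he) (get_pm ez_valid),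
          Nat.eq_of_beq_eq_true h]
      rintro g (rfl | hg) <;> refine Subgroup.mem_centralizer_iff.2 fun t ht => ?_ <;>
        rw [Set.mem_singleton_iff.1 ht]
      · exact key ea b35_valid.1 p_abz.2.2.2.2.1
      · rw [Set.mem_singleton_iff.1 hg]
        exact key eb b35_valid.2.1 p_abz.2.2.2.2.2
    exact Subgroup.mem_centralizer_iff.1 (hle hp) _ rfl
  z_comm := by
    refine ⟨⟨pm ea, (P35_le_B35.trans B35_le) (Subgroup.subset_closure (by simp))⟩,
      Subgroup.subset_closure (by simp),
      ⟨pm eb, (P35_le_B35.trans B35_le) (Subgroup.subset_closure (by simp))⟩,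
      Subgroup.subset_closure (by simp), Subtype.ext ?_⟩
    exact pm_ez
  P_comm := fun p hp r hr => by
    obtain ⟨k, hk⟩ := Subgroup.mem_zpowers_iff.1 (comm_mem _ hp _ hr)
    exact Subgroup.mem_zpowers_iff.2 ⟨k, Subtype.ext hk⟩
  P_normal := fun s hs p hp => P35_normal _ (stab_eq _ s.2 hs) _ hp
  z_normal := fun s hs => by
    obtain ⟨k, hk⟩ := Subgroup.mem_zpowers_iff.1
      (zpow_mem_of_gens _ (stab_eq _ s.2 hs) _ (Subgroup.mem_zpowers (pm ez)))
    exact Subgroup.mem_zpowers_iff.2 ⟨k, Subtype.ext hk⟩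
  c_mem := ec_mem.2
  c_cond := by
    intro r hr hrz i hi j hj heq
    obtain ⟨e, he, her⟩ := P35_subset hr
    replace her : pm e = (r : Equiv.Perm (Fin 126)) := her
    have hv := (p_valid e he).1
    have h := c_cond
    simp only [List.all_eq_true, Bool.or_eq_true, List.any_eq_true, Bool.not_eq_true'] at h
    rcases h e he with ⟨k, -, hk⟩ | h1
    · apply hrz
      refine Subgroup.mem_zpowers_iff.2 ⟨(k : ℤ), Subtype.ext ?_⟩
      rw [← her, zpow_natCast]
      exact (code_eq hv (get_powC ez_valid k) hk).symm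
    · obtain ⟨k, hk5, hk⟩ : ∃ k < 5, pm e ^ k = (i : Equiv.Perm (Fin 126)) := by
        obtain ⟨n, rfl⟩ := hi
        refine small_power (pm e) ?_ n |>.imp fun k hk => ⟨hk.1, ?_⟩
        · rw [her]
          exact pow_five r hr
        · rw [hk.2, her]; rfl
      obtain ⟨l, hl5, hl⟩ : ∃ l < 5, pm ez ^ l = (j : Equiv.Perm (Fin 126)) := by
        obtain ⟨n, rfl⟩ := hj
        refine small_power (pm ez) ?_ n |>.imp fun k hk => ⟨hk.1, ?_⟩
        · refine Equiv.ext fun u => Fin.ext ?_
          rw [← get_powC ez_valid 5 u, ← get_one u, z_pow_five]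
        · rw [hk.2]; rfl
      apply Nat.ne_of_beq_eq_false (h1 k (List.mem_range.2 hk5) l (List.mem_range.2 hl5))
      refine code_canon_comp ?_
      intro u
      rw [get_mul (get_pm b35_valid.2.2) (get_mul (get_pm hv) (get_pm_inv b35_valid.2.2)),
        get_mul (get_powC hv k) (get_powC ez_valid l), hk, hl]
      have h2 := congrArg (fun x : G126 => ((x : Equiv.Perm (Fin 126)) u : ℕ)) heq
      simp only [Subgroup.coe_mul, Subgroup.coe_inv] at h2
      rw [her, ← h2, mul_assoc]
where
  code_canon {e : ℕ} (h : ∀ i : Fin 126, get 7 ez.1 i = get 7 e i) (he : e = idCode 7 126 := by rfl) :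
      ez.1 = idCode 7 126 := by
    subst he
    have hc := ez_canon
    rw [Nat.beq_eq] at hc
    rw [hc]
    exact pack_congr fun i hi => by
      rw [h ⟨i, hi⟩, get_idCode 7 126 i (by norm_num) hi]
  pack_congr {f g : ℕ → ℕ} {n : ℕ} (h : ∀ i < n, f i = g i) : pack 7 f n = pack 7 g n := by
    induction n with
    | zero => rfl
    | succ n ih => rw [pack_succ, pack_succ, ih (fun i hi => h i (by omega)), h n (by omega)]
  code_canon_comp {a b a' b' : ℕ} (h : ∀ u : Fin 126, get 7 (comp 7 126 a b) u = get 7 (comp 7 126 a' b') u) :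
      comp 7 126 a b = comp 7 126 a' b' := by
    refine pack_congr fun i hi => ?_
    have := h ⟨i, hi⟩
    rwa [get_comp _ _ _ _ _ hi, get_comp _ _ _ _ _ hi] at this
  small_power {H : Type} [Group H] (x : H) (hx : x ^ 5 = 1) (n : ℤ) : ∃ k, k < 5 ∧ x ^ k = x ^ n := by
    refine ⟨(n % 5).toNat, by omega, ?_⟩
    rw [← zpow_natCast, Int.toNat_of_nonneg (Int.emod_nonneg n (by norm_num))]
    conv_rhs => rw [← Int.emod_add_mul_ediv n 5, zpow_add, zpow_mul,
      show x ^ (5 : ℤ) = 1 from by rw [show (5 : ℤ) = ((5 : ℕ) : ℤ) from rfl, zpow_natCast, hx],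
      one_zpow, mul_one]
  pow_five (r : G126) (hr : (r : Equiv.Perm (Fin 126)) ∈ P35) : (r : Equiv.Perm (Fin 126)) ^ 5 = 1 := by
    obtain ⟨e, he, her⟩ := P35_subset hr
    rw [← her]
    refine Equiv.ext fun u => Fin.ext ?_
    rw [← get_powC (p_valid e he).1 5 u, ← get_one u]
    have h := p_exp
    simp only [List.all_eq_true] at h
    rw [Nat.eq_of_beq_eq_true (h e he)]

/-- PSU₃(5) has no proper subgroup of index below 50. -/
theorem index_bound (H : Subgroup G126) (hH : H ≠ ⊤) : 50 ≤ H.index := by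
  haveI := simple
  exact data.index_bound H hH

theorem exists_index_fifty : ∃ H : Subgroup G126, H.index = 50 := by
  have hle : genGroup 7 126 k35Gens ≤ G126 := by
    refine (Subgroup.closure_le _).2 fun σ hσ => ?_
    obtain ⟨e, he, rfl⟩ := List.mem_map.1 hσ
    obtain ⟨h1, h2⟩ := small_ok.2.1 e he
    exact cert_mem g35_cert h1 h2
  refine ⟨(genGroup 7 126 k35Gens).subgroupOf G126, ?_⟩
  have h := ((genGroup 7 126 k35Gens).subgroupOf G126).card_mul_index
  rw [Nat.card_congr (Subgroup.subgroupOfEquivOfLe hle).toEquiv, cert_card k35_cert, k35_order,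
    card_G126] at h
  omega

end Cfsg.Agent.U35
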