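import Cfsg.Agent.Lib.U35.F25

/-! The isotropic points and two generators of SU₃(5). -/

namespace Cfsg.Agent.U35

/-- The 126 isotropic points. -/
def ptList : List (Fin 3 → F25) :=
  [![⟨0, 0⟩, ⟨1, 0⟩, ⟨1, 1⟩],
    ![⟨0, 0⟩, ⟨1, 0⟩, ⟨1, 4⟩],
    ![⟨0, 0⟩, ⟨1, 0⟩, ⟨2, 0⟩],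
    ![⟨0, 0⟩, ⟨1, 0⟩, ⟨3, 0⟩],
    ![⟨0, 0⟩, ⟨1, 0⟩, ⟨4, 1⟩],
    ![⟨0, 0⟩, ⟨1, 0⟩, ⟨4, 4⟩],
    ![⟨1, 0⟩, ⟨0, 0⟩, ⟨1, 1⟩],
    ![⟨1, 0⟩, ⟨0, 0⟩, ⟨1, 4⟩],
    ![⟨1, 0⟩, ⟨0, 0⟩, ⟨2, 0⟩],
    ![⟨1, 0⟩, ⟨0, 0⟩, ⟨3, 0⟩],
    ![⟨1, 0⟩, ⟨0, 0⟩, ⟨4, 1⟩],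
    ![⟨1, 0⟩, ⟨0, 0⟩, ⟨4, 4⟩],
    ![⟨1, 0⟩, ⟨0, 1⟩, ⟨1, 0⟩],
    ![⟨1, 0⟩, ⟨0, 1⟩, ⟨2, 2⟩],
    ![⟨1, 0⟩, ⟨0, 1⟩, ⟨2, 3⟩],
    ![⟨1, 0⟩, ⟨0, 1⟩, ⟨3, 2⟩],
    ![⟨1, 0⟩, ⟨0, 1⟩, ⟨3, 3⟩],
    ![⟨1, 0⟩, ⟨0, 1⟩, ⟨4, 0⟩],
    ![⟨1, 0⟩, ⟨0, 2⟩, ⟨0, 2⟩],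
    ![⟨1, 0⟩, ⟨0, 2⟩, ⟨0, 3⟩],
    ![⟨1, 0⟩, ⟨0, 2⟩, ⟨2, 1⟩],
    ![⟨1, 0⟩, ⟨0, 2⟩, ⟨2, 4⟩],
    ![⟨1, 0⟩, ⟨0, 2⟩, ⟨3, 1⟩],
    ![⟨1, 0⟩, ⟨0, 2⟩, ⟨3, 4⟩],
    ![⟨1, 0⟩, ⟨0, 3⟩, ⟨0, 2⟩],
    ![⟨1, 0⟩, ⟨0, 3⟩, ⟨0, 3⟩],
    ![⟨1, 0⟩, ⟨0, 3⟩, ⟨2, 1⟩],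
    ![⟨1, 0⟩, ⟨0, 3⟩, ⟨2, 4⟩],
    ![⟨1, 0⟩, ⟨0, 3⟩, ⟨3, 1⟩],
    ![⟨1, 0⟩, ⟨0, 3⟩, ⟨3, 4⟩],
    ![⟨1, 0⟩, ⟨0, 4⟩, ⟨1, 0⟩],
    ![⟨1, 0⟩, ⟨0, 4⟩, ⟨2, 2⟩],
    ![⟨1, 0⟩, ⟨0, 4⟩, ⟨2, 3⟩],
    ![⟨1, 0⟩, ⟨0, 4⟩, ⟨3, 2⟩],
    ![⟨1, 0⟩, ⟨0, 4⟩, ⟨3, 3⟩],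
    ![⟨1, 0⟩, ⟨0, 4⟩, ⟨4, 0⟩],
    ![⟨1, 0⟩, ⟨1, 0⟩, ⟨0, 1⟩],
    ![⟨1, 0⟩, ⟨1, 0⟩, ⟨0, 4⟩],
    ![⟨1, 0⟩, ⟨1, 0⟩, ⟨1, 2⟩],
    ![⟨1, 0⟩, ⟨1, 0⟩, ⟨1, 3⟩],
    ![⟨1, 0⟩, ⟨1, 0⟩, ⟨4, 2⟩],
    ![⟨1, 0⟩, ⟨1, 0⟩, ⟨4, 3⟩],
    ![⟨1, 0⟩, ⟨1, 1⟩, ⟨0, 0⟩],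
    ![⟨1, 0⟩, ⟨1, 2⟩, ⟨1, 0⟩],
    ![⟨1, 0⟩, ⟨1, 2⟩, ⟨2, 2⟩],
    ![⟨1, 0⟩, ⟨1, 2⟩, ⟨2, 3⟩],
    ![⟨1, 0⟩, ⟨1, 2⟩, ⟨3, 2⟩],
    ![⟨1, 0⟩, ⟨1, 2⟩, ⟨3, 3⟩],
    ![⟨1, 0⟩, ⟨1, 2⟩, ⟨4, 0⟩],
    ![⟨1, 0⟩, ⟨1, 3⟩, ⟨1, 0⟩],
    ![⟨1, 0⟩, ⟨1, 3⟩, ⟨2, 2⟩],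
    ![⟨1, 0⟩, ⟨1, 3⟩, ⟨2, 3⟩],
    ![⟨1, 0⟩, ⟨1, 3⟩, ⟨3, 2⟩],
    ![⟨1, 0⟩, ⟨1, 3⟩, ⟨3, 3⟩],
    ![⟨1, 0⟩, ⟨1, 3⟩, ⟨4, 0⟩],
    ![⟨1, 0⟩, ⟨1, 4⟩, ⟨0, 0⟩],
    ![⟨1, 0⟩, ⟨2, 0⟩, ⟨0, 0⟩],
    ![⟨1, 0⟩, ⟨2, 1⟩, ⟨0, 2⟩],
    ![⟨1, 0⟩, ⟨2, 1⟩, ⟨0, 3⟩],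
    ![⟨1, 0⟩, ⟨2, 1⟩, ⟨2, 1⟩],
    ![⟨1, 0⟩, ⟨2, 1⟩, ⟨2, 4⟩],
    ![⟨1, 0⟩, ⟨2, 1⟩, ⟨3, 1⟩],
    ![⟨1, 0⟩, ⟨2, 1⟩, ⟨3, 4⟩],
    ![⟨1, 0⟩, ⟨2, 2⟩, ⟨0, 1⟩],
    ![⟨1, 0⟩, ⟨2, 2⟩, ⟨0, 4⟩],
    ![⟨1, 0⟩, ⟨2, 2⟩, ⟨1, 2⟩],
    ![⟨1, 0⟩, ⟨2, 2⟩, ⟨1, 3⟩],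
    ![⟨1, 0⟩, ⟨2, 2⟩, ⟨4, 2⟩],
    ![⟨1, 0⟩, ⟨2, 2⟩, ⟨4, 3⟩],
    ![⟨1, 0⟩, ⟨2, 3⟩, ⟨0, 1⟩],
    ![⟨1, 0⟩, ⟨2, 3⟩, ⟨0, 4⟩],
    ![⟨1, 0⟩, ⟨2, 3⟩, ⟨1, 2⟩],
    ![⟨1, 0⟩, ⟨2, 3⟩, ⟨1, 3⟩],
    ![⟨1, 0⟩, ⟨2, 3⟩, ⟨4, 2⟩],
    ![⟨1, 0⟩, ⟨2, 3⟩, ⟨4, 3⟩],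
    ![⟨1, 0⟩, ⟨2, 4⟩, ⟨0, 2⟩],
    ![⟨1, 0⟩, ⟨2, 4⟩, ⟨0, 3⟩],
    ![⟨1, 0⟩, ⟨2, 4⟩, ⟨2, 1⟩],
    ![⟨1, 0⟩, ⟨2, 4⟩, ⟨2, 4⟩],
    ![⟨1, 0⟩, ⟨2, 4⟩, ⟨3, 1⟩],
    ![⟨1, 0⟩, ⟨2, 4⟩, ⟨3, 4⟩],
    ![⟨1, 0⟩, ⟨3, 0⟩, ⟨0, 0⟩],
    ![⟨1, 0⟩, ⟨3, 1⟩, ⟨0, 2⟩],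
    ![⟨1, 0⟩, ⟨3, 1⟩, ⟨0, 3⟩],
    ![⟨1, 0⟩, ⟨3, 1⟩, ⟨2, 1⟩],
    ![⟨1, 0⟩, ⟨3, 1⟩, ⟨2, 4⟩],
    ![⟨1, 0⟩, ⟨3, 1⟩, ⟨3, 1⟩],
    ![⟨1, 0⟩, ⟨3, 1⟩, ⟨3, 4⟩],
    ![⟨1, 0⟩, ⟨3, 2⟩, ⟨0, 1⟩],
    ![⟨1, 0⟩, ⟨3, 2⟩, ⟨0, 4⟩],
    ![⟨1, 0⟩, ⟨3, 2⟩, ⟨1, 2⟩],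
    ![⟨1, 0⟩, ⟨3, 2⟩, ⟨1, 3⟩],
    ![⟨1, 0⟩, ⟨3, 2⟩, ⟨4, 2⟩],
    ![⟨1, 0⟩, ⟨3, 2⟩, ⟨4, 3⟩],
    ![⟨1, 0⟩, ⟨3, 3⟩, ⟨0, 1⟩],
    ![⟨1, 0⟩, ⟨3, 3⟩, ⟨0, 4⟩],
    ![⟨1, 0⟩, ⟨3, 3⟩, ⟨1, 2⟩],
    ![⟨1, 0⟩, ⟨3, 3⟩, ⟨1, 3⟩],
    ![⟨1, 0⟩, ⟨3, 3⟩, ⟨4, 2⟩],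
    ![⟨1, 0⟩, ⟨3, 3⟩, ⟨4, 3⟩],
    ![⟨1, 0⟩, ⟨3, 4⟩, ⟨0, 2⟩],
    ![⟨1, 0⟩, ⟨3, 4⟩, ⟨0, 3⟩],
    ![⟨1, 0⟩, ⟨3, 4⟩, ⟨2, 1⟩],
    ![⟨1, 0⟩, ⟨3, 4⟩, ⟨2, 4⟩],
    ![⟨1, 0⟩, ⟨3, 4⟩, ⟨3, 1⟩],
    ![⟨1, 0⟩, ⟨3, 4⟩, ⟨3, 4⟩],
    ![⟨1, 0⟩, ⟨4, 0⟩, ⟨0, 1⟩],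
    ![⟨1, 0⟩, ⟨4, 0⟩, ⟨0, 4⟩],
    ![⟨1, 0⟩, ⟨4, 0⟩, ⟨1, 2⟩],
    ![⟨1, 0⟩, ⟨4, 0⟩, ⟨1, 3⟩],
    ![⟨1, 0⟩, ⟨4, 0⟩, ⟨4, 2⟩],
    ![⟨1, 0⟩, ⟨4, 0⟩, ⟨4, 3⟩],
    ![⟨1, 0⟩, ⟨4, 1⟩, ⟨0, 0⟩],
    ![⟨1, 0⟩, ⟨4, 2⟩, ⟨1, 0⟩],
    ![⟨1, 0⟩, ⟨4, 2⟩, ⟨2, 2⟩],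
    ![⟨1, 0⟩, ⟨4, 2⟩, ⟨2, 3⟩],
    ![⟨1, 0⟩, ⟨4, 2⟩, ⟨3, 2⟩],
    ![⟨1, 0⟩, ⟨4, 2⟩, ⟨3, 3⟩],
    ![⟨1, 0⟩, ⟨4, 2⟩, ⟨4, 0⟩],
    ![⟨1, 0⟩, ⟨4, 3⟩, ⟨1, 0⟩],
    ![⟨1, 0⟩, ⟨4, 3⟩, ⟨2, 2⟩],
    ![⟨1, 0⟩, ⟨4, 3⟩, ⟨2, 3⟩],
    ![⟨1, 0⟩, ⟨4, 3⟩, ⟨3, 2⟩],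
    ![⟨1, 0⟩, ⟨4, 3⟩, ⟨3, 3⟩],
    ![⟨1, 0⟩, ⟨4, 3⟩, ⟨4, 0⟩],
    ![⟨1, 0⟩, ⟨4, 4⟩, ⟨0, 0⟩]]

/-- A generator. -/
def matA : Matrix (Fin 3) (Fin 3) F25 :=
  !![⟨1, 3⟩, ⟨2, 3⟩, ⟨2, 4⟩; ⟨4, 0⟩, ⟨1, 1⟩, ⟨2, 3⟩; ⟨2, 4⟩, ⟨3, 3⟩, ⟨4, 3⟩]

/-- A generator. -/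
def matB : Matrix (Fin 3) (Fin 3) F25 :=
  !![⟨2, 3⟩, ⟨2, 4⟩, ⟨4, 3⟩; ⟨0, 2⟩, ⟨0, 3⟩, ⟨3, 1⟩; ⟨1, 3⟩, ⟨0, 3⟩, ⟨2, 3⟩]

end Cfsg.Agent.U35
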